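import Groth.Agent.ConstFlat57.Equivariant
import Groth.Agent.ConstQuot97.Chart

/-!
Étale charts of the invariants over which an invariant map to an algebraic space descends, for an algebra finite over
its invariants (no noetherian hypothesis).  The reduction to an affine stable chart is the one of
`Groth.Agent.ConstQuot97.exists_chart`.
-/

set_option autoImplicit false
set_option maxHeartbeats 2000000
set_option backward.isDefEq.respectTransparency false
set_option backward.isDefEq.respectTransparency.types false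
set_option linter.style.haveILetI false
universe u

open CategoryTheory CategoryTheory.Limits AlgebraicGeometry Opposite TopologicalSpace
open AlgSp Groth.Agent.SpFP87
open scoped TensorProduct

noncomputable section

namespace Groth.Agent.ConstFlat57

open Groth.Agent.ConstQuot97

variable (R : Type u) [CommRing R]
variable (A : Type u) [CommRing A] [Algebra R A]
variable (G : Type u) [Group G] [Finite G] [MulSemiringAction G A] [SMulCommClass G R A]
  [Module.Finite (ConstAct.inv R A G) A]

local notation "SR" => Spec (CommRingCat.of R)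

/-- A chart: an affine equivariant étale scheme over `Spec A`, separating the inertia, descends around a point. -/
theorem exists_descent_of_affine (U : Over SR) (B : CommRingCat.{u})
    (q : Spec B ⟶ Spec (CommRingCat.of A)) [Etale q] (r : Spec B ⟶ U.left)
    (hr : r ≫ U.hom = q ≫ (ConstAct.specA R A).hom)
    (U₀ : U.left.Opens) (hU₀ : IsAffineOpen U₀) (hrU : Set.range r ⊆ U₀)
    (σ : G → (Spec B ⟶ Spec B)) (hσ1 : σ 1 = 𝟙 _) (hσ : ∀ g g', σ (g * g') = σ g ≫ σ g')
    (hσq : ∀ g, σ g ≫ q = q ≫ (ConstAct.act R A G g).left) (hσr : ∀ g, σ g ≫ r = r)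
    (hmono : ∀ (T : Scheme.{u}) (a b : T ⟶ Spec B), a ≫ q = b ≫ q → a ≫ r = b ≫ r → a = b)
    (x₀ : Spec B) :
    ∃ (Y' : Over SR) (t : Y' ⟶ ConstAct.specInv R A G) (k : Y' ⟶ U),
      Etale t.left ∧ (ConstAct.quot R A G).left (q x₀) ∈ Set.range t.left ∧
      ∀ (W : Over SR) (a : W ⟶ Y') (b : W ⟶ ConstAct.specA R A), a ≫ t = b ≫ ConstAct.quot R A G →
        ∃ w : W.left ⟶ Spec B, w ≫ q = b.left ∧ w ≫ r = a.left ≫ k.left := by
  classical
  let qA : CommRingCat.of A ⟶ B := Spec.preimage q
  have hqA : Spec.map qA = q := Spec.map_preimage q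
  let τ : G → (B ⟶ B) := fun g => Spec.preimage (σ g)
  have hτ : ∀ g, Spec.map (τ g) = σ g := fun g => Spec.map_preimage _
  have hτmul : ∀ g g', τ (g * g') = τ g' ≫ τ g := fun g g' => Spec.map_injective (by
    rw [Spec.map_comp, hτ, hτ, hτ, hσ])
  have hτ1 : τ 1 = 𝟙 B := Spec.map_injective (by rw [hτ, hσ1, Spec.map_id])
  letI : MulSemiringAction G B :=
    { smul := fun g b => (τ g).hom b
      one_smul := fun b => by show (τ 1).hom b = b; rw [hτ1]; rfl
      mul_smul := fun g g' b => by show (τ (g * g')).hom b = _; rw [hτmul]; rfl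
      smul_zero := fun g => map_zero _
      smul_add := fun g => map_add _
      smul_one := fun g => map_one _
      smul_mul := fun g => map_mul _ }
  letI : Algebra A B := qA.hom.toAlgebra
  letI : Algebra R B := (qA.hom.comp (algebraMap R A)).toAlgebra
  haveI : IsScalarTower R A B := IsScalarTower.of_algebraMap_eq fun _ => rfl
  haveI : Algebra.Etale A B := RingHom.etale_algebraMap.1
    ((HasRingHomProperty.Spec_iff (P := @Etale) (φ := qA)).1 (hqA ▸ ‹Etale q›))
  have hGeq : ∀ (g : G) (a : A), algebraMap A B (g • a) = g • algebraMap A B a := fun g a => by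
    have h : (CommRingCat.ofHom (MulSemiringAction.toRingHom G A g) : CommRingCat.of A ⟶ CommRingCat.of A) ≫ qA =
        qA ≫ τ g := Spec.map_injective (by rw [Spec.map_comp, Spec.map_comp, hτ, hqA]; exact (hσq g).symm)
    exact congrArg (fun k : CommRingCat.of A ⟶ B => k.hom a) h
  haveI : SMulCommClass G R B := ⟨fun g s b => by
    rw [Algebra.smul_def, Algebra.smul_def, smul_mul']
    congr 1
    show g • algebraMap A B (algebraMap R A s) = _
    rw [← hGeq, smul_algebraMap]
    rfl⟩
  have hstab : StabPres A B G := by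
    intro K hK g p hp b
    let P : CommRingCat.of B ⟶ CommRingCat.of K := CommRingCat.ofHom p
    have h : Spec.map P ≫ σ g = Spec.map P := by
      apply hmono
      · rw [← hqA, ← hτ, ← Spec.map_comp, ← Spec.map_comp, ← Spec.map_comp]
        congr 1
        refine CommRingCat.hom_ext (RingHom.ext fun a => ?_)
        show p (g • algebraMap A B a) = p (algebraMap A B a)
        rw [← hGeq]; exact hp a
      · rw [Category.assoc, hσr]
    rw [← hτ, ← Spec.map_comp] at h
    exact congrArg (fun k : CommRingCat.of B ⟶ CommRingCat.of K => k.hom b) (Spec.map_injective h)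
  let C := ConstAct.inv R A G
  haveI := FinGrp34.fixed_smulComm R A G
  letI : Algebra C B := (qA.hom.comp (algebraMap C A)).toAlgebra
  haveI : IsScalarTower C A B := IsScalarTower.of_algebraMap_eq fun _ => rfl
  haveI : SMulCommClass G C B := ⟨fun g c b => by
    rw [Algebra.smul_def, Algebra.smul_def, smul_mul']
    congr 1
    show g • algebraMap A B (algebraMap C A c) = _
    rw [← hGeq, smul_algebraMap]
    rfl⟩
  let x : Ideal B := (x₀ : PrimeSpectrum B).asIdeal
  haveI : x.IsPrime := (x₀ : PrimeSpectrum B).2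
  haveI : Algebra.IsEtaleAt A x := inferInstanceAs (Algebra.FormallyEtale A (Localization.AtPrime x))
  obtain ⟨E, _, _, _, s, qE, hqE, hqc, hsA, hsG⟩ := exists_etale_section (C := C) (B := A) (A := B) G hGeq
    (fun a ha => ⟨⟨a, ha⟩, rfl⟩) Subtype.val_injective x (fun g hg b => by
      have h := hstab x.ResidueField g (algebraMap B x.ResidueField) fun a => by
        rw [← sub_eq_zero, ← map_sub, ← map_sub, Ideal.algebraMap_residueField_eq_zero]
        exact hg a
      rw [← Ideal.algebraMap_residueField_eq_zero, map_sub, sub_eq_zero]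
      exact h b)
  haveI : Module.Flat C E := inferInstance
  -- the invariant function to the affine open
  let r₀ : Spec B ⟶ U₀.toScheme := IsOpenImmersion.lift U₀.ι r (by simpa using hrU)
  have hr₀ : r₀ ≫ U₀.ι = r := IsOpenImmersion.lift_fac _ _ _
  let φ : Γ(U.left, U₀) ⟶ B := Spec.preimage (r₀ ≫ hU₀.isoSpec.hom)
  have hφ : Spec.map φ = r₀ ≫ hU₀.isoSpec.hom := Spec.map_preimage _
  have hφg : ∀ (g : G) z, g • φ.hom z = φ.hom z := fun g z => by
    have h : φ ≫ τ g = φ := Spec.map_injective (by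
      rw [Spec.map_comp, hτ, hφ, ← Category.assoc]
      congr 1
      rw [← cancel_mono U₀.ι, Category.assoc, hr₀, hσr])
    exact congrArg (fun k : Γ(U.left, U₀) ⟶ B => k.hom z) h
  let iE : E →ₐ[C] E ⊗[C] A := Algebra.TensorProduct.includeLeft
  have hiE : Function.Injective iE := by
    intro e e' he
    have h := Module.Flat.lTensor_preserves_injective_linearMap (M := E) (Algebra.linearMap C A)
      Subtype.val_injective
    refine (TensorProduct.rid C E).symm.injective (h ?_)
    simpa [iE] using he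
  have hfix : ∀ z : E ⊗[C] A, (∀ g : G, Algebra.TensorProduct.map (AlgHom.id E E)
      (MulSemiringAction.toAlgHom C A g) z = z) → z ∈ iE.toRingHom.range := by
    intro z hz
    obtain ⟨w, hw⟩ := FinGrp34.exists_of_fixed C E A G C (IsScalarTower.toAlgHom C C A)
      (fun m hm => ⟨⟨m, hm⟩, rfl⟩) z hz
    refine ⟨TensorProduct.rid C E w, ?_⟩
    rw [← hw]
    clear hw hz
    induction w using TensorProduct.induction_on with
    | zero => simp
    | tmul e c =>
      show (TensorProduct.rid C E (e ⊗ₜ c)) ⊗ₜ (1 : A) = e ⊗ₜ algebraMap C A c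
      rw [TensorProduct.rid_tmul, TensorProduct.smul_tmul, Algebra.smul_def, _root_.mul_one]
    | add p q hp hq => simp only [map_add, hp, hq]
  have hφE : ∀ z, s (φ.hom z) ∈ iE.toRingHom.range := fun z => hfix _ fun g => by rw [← hsG, hφg]
  choose φ' hφ' using hφE
  let φE : Γ(U.left, U₀) ⟶ CommRingCat.of E := CommRingCat.ofHom
    { toFun := φ'
      map_one' := hiE ((hφ' 1).trans (by rw [map_one, map_one, map_one]))
      map_mul' := fun a b => hiE ((hφ' _).trans (by rw [map_mul, map_mul, map_mul, ← hφ', ← hφ']; rfl))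
      map_zero' := hiE ((hφ' 0).trans (by rw [map_zero, map_zero, map_zero]))
      map_add' := fun a b => hiE ((hφ' _).trans (by rw [map_add, map_add, map_add, ← hφ', ← hφ']; rfl)) }
  let ιE : CommRingCat.of E ⟶ CommRingCat.of (E ⊗[C] A) := CommRingCat.ofHom iE.toRingHom
  let sB : B ⟶ CommRingCat.of (E ⊗[C] A) := CommRingCat.ofHom s
  have hsq : φE ≫ ιE = φ ≫ sB := CommRingCat.hom_ext (RingHom.ext hφ')
  let k₀ : Spec (CommRingCat.of E) ⟶ U.left := Spec.map φE ≫ hU₀.isoSpec.inv ≫ U₀.ι
  have hk₀ : Spec.map ιE ≫ k₀ = Spec.map sB ≫ r := by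
    rw [← Category.assoc, ← Spec.map_comp, hsq, Spec.map_comp, hφ, Category.assoc, Category.assoc,
      Iso.hom_inv_id_assoc, hr₀]
  let gC : CommRingCat.of C ⟶ CommRingCat.of E := CommRingCat.ofHom (algebraMap C E)
  let iA : CommRingCat.of A ⟶ CommRingCat.of (E ⊗[C] A) :=
    CommRingCat.ofHom (Algebra.TensorProduct.includeRight : A →ₐ[C] E ⊗[C] A).toRingHom
  have hqs : qA ≫ sB = iA := CommRingCat.hom_ext (RingHom.ext hsA)
  have hgi : gC ≫ ιE = incl R A G ≫ iA := CommRingCat.hom_ext (RingHom.ext fun c =>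
    (iE.commutes c).trans
      ((Algebra.TensorProduct.includeRight : A →ₐ[C] E ⊗[C] A).commutes c).symm)
  have hk : k₀ ≫ U.hom = Spec.map gC ≫ (ConstAct.specInv R A G).hom := by
    obtain ⟨m, hm⟩ := Spec.map_surjective (k₀ ≫ U.hom)
    let cR : CommRingCat.of R ⟶ CommRingCat.of C := CommRingCat.ofHom (algebraMap R C)
    have h1 : Spec.map (m ≫ ιE) = Spec.map ((cR ≫ gC) ≫ ιE) := by
      rw [Spec.map_comp, hm, ← Category.assoc, hk₀, Category.assoc, hr, Category.assoc cR, hgi, ← hqs,
        Spec.map_comp, Spec.map_comp, Spec.map_comp, hqA, Category.assoc, Category.assoc]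
      congr 2
      show Spec.map _ = Spec.map _ ≫ Spec.map _
      rw [← Spec.map_comp]
      rfl
    rw [← hm]
    show Spec.map m = Spec.map gC ≫ Spec.map cR
    rw [← Spec.map_comp]
    congr 1
    refine CommRingCat.hom_ext (RingHom.ext fun z => hiE ?_)
    exact congrArg (fun k : CommRingCat.of R ⟶ CommRingCat.of (E ⊗[C] A) => k.hom z) (Spec.map_injective h1)
  have hpb : IsPullback (Spec.map ιE) (Spec.map iA) (Spec.map gC) (Spec.map (incl R A G)) :=
    isPullback_SpecMap_of_isPushout _ _ _ _ (CommRingCat.isPushout_tensorProduct C E A)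
  refine ⟨Over.mk (Spec.map gC ≫ (ConstAct.specInv R A G).hom), Over.homMk (Spec.map gC) rfl,
    Over.homMk k₀ hk, HasRingHomProperty.Spec_iff.2 (RingHom.etale_algebraMap.2 inferInstance),
    ⟨(⟨qE, hqE⟩ : PrimeSpectrum E), ?_⟩, fun W a b hab => ?_⟩
  · show Spec.map gC _ = Spec.map (incl R A G) (q x₀)
    rw [← hqA]
    refine PrimeSpectrum.ext ?_
    show qE.comap (algebraMap C E) = (x.comap qA.hom).comap (algebraMap C A)
    rw [Ideal.comap_comap, hqc]
    rfl
  · let l : W.left ⟶ Spec (CommRingCat.of (E ⊗[C] A)) := hpb.lift a.left b.left (congrArg CommaMorphism.left hab)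
    have hl1 : l ≫ Spec.map ιE = a.left := hpb.lift_fst _ _ _
    have hl2 : l ≫ Spec.map iA = b.left := hpb.lift_snd _ _ _
    refine ⟨l ≫ Spec.map sB, ?_, ?_⟩
    · rw [Category.assoc, ← hl2, ← hqs, Spec.map_comp, hqA]
    · rw [Category.assoc, ← hk₀, ← Category.assoc, hl1]
      rfl

variable {R A G}

/-- Every point of `Spec A` has an étale chart of the invariants over which `ψ` descends. -/
theorem exists_chart {N : Sp SR} (hN : IsAlgSpace N) (ψ : (yon SR).obj (ConstAct.specA R A) ⟶ N)
    (hψ : ∀ g : G, (yon SR).map (ConstAct.act R A G g) ≫ ψ = ψ) (x : Spec (CommRingCat.of A)) :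
    ∃ (Y' : Over SR) (t : Y' ⟶ ConstAct.specInv R A G) (χ : (yon SR).obj Y' ⟶ N),
      Etale t.left ∧ (ConstAct.quot R A G).left x ∈ Set.range t.left ∧
      ∀ (W : Over SR) (a : W ⟶ Y') (b : W ⟶ ConstAct.specA R A), a ≫ t = b ≫ ConstAct.quot R A G →
        (yon SR).map a ≫ χ = (yon SR).map b ≫ ψ := by
  obtain ⟨U, p, hpe, hps⟩ := hN.atlas
  obtain ⟨X', q, r, sq⟩ := exists_isPullback_yon hN.diag ψ p
  have : Etale q.left := hpe.property _ _ _ sq.flip
  have : Surjective q.left := hps.property _ _ _ sq.flip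
  have hext : ∀ {T : Over SR} (a b : T ⟶ X'), a ≫ q = b ≫ q → a ≫ r = b ≫ r → a = b := fun {T} a b h1 h2 =>
    (yon SR).map_injective (sq.hom_ext (by rw [← Functor.map_comp, h1, Functor.map_comp])
      (by rw [← Functor.map_comp, h2, Functor.map_comp]))
  have hlift : ∀ g : G, ∃ s : X' ⟶ X', s ≫ q = q ≫ ConstAct.act R A G g ∧ s ≫ r = r := fun g => by
    have hw : (yon SR).map (q ≫ ConstAct.act R A G g) ≫ ψ = (yon SR).map r ≫ p := by
      rw [Functor.map_comp, Category.assoc, hψ, sq.w]
    obtain ⟨s, hs⟩ := (yon SR).map_surjective (sq.lift _ _ hw)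
    exact ⟨s, (yon SR).map_injective (by rw [Functor.map_comp, hs, sq.lift_fst]),
      (yon SR).map_injective (by rw [Functor.map_comp, hs, sq.lift_snd])⟩
  choose σ hσq hσr using hlift
  have hσ1 : σ 1 = 𝟙 X' := hext _ _ (by rw [hσq, ConstAct.act_one, Category.comp_id, Category.id_comp])
    (by rw [hσr, Category.id_comp])
  have hσ : ∀ g g', σ (g * g') = σ g ≫ σ g' := fun g g' => hext _ _
    (by rw [hσq, Category.assoc, hσq, ← Category.assoc, hσq, Category.assoc, ← ConstAct.act_mul])
    (by rw [hσr, Category.assoc, hσr, hσr])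
  obtain ⟨x', hx'⟩ := q.left.surjective x
  obtain ⟨U₀, hU₀, hu, -⟩ := exists_isAffineOpen_mem_and_subset (x := r.left x') (U := ⊤) trivial
  let V : X'.left.Opens := r.left ⁻¹ᵁ U₀
  have hσV : ∀ g, (σ g).left ⁻¹ᵁ V = V := fun g => by
    show (σ g).left ⁻¹ᵁ (r.left ⁻¹ᵁ U₀) = _
    rw [← Scheme.Hom.comp_preimage, ← Over.comp_left, hσr]
  have hmono : ∀ (T : Scheme.{u}) (a b : T ⟶ X'.left), a ≫ q.left = b ≫ q.left → a ≫ r.left = b ≫ r.left →
      a = b := fun T a b h1 h2 => by
    have hab : b ≫ X'.hom = a ≫ X'.hom := by rw [← Over.w q, ← Category.assoc, ← h1, Category.assoc]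
    exact congrArg CommaMorphism.left (hext (T := Over.mk (a ≫ X'.hom)) (Over.homMk a rfl) (Over.homMk b hab)
      (Over.OverMorphism.ext h1) (Over.OverMorphism.ext h2))
  -- the part over `U₀` is separated
  let m : V.toScheme ⟶ pullback (ConstAct.specA R A).hom (U₀.ι ≫ U.hom) :=
    pullback.lift (V.ι ≫ q.left) (r.left.resLE U₀ V le_rfl) (by
      rw [Category.assoc, Over.w, Scheme.Hom.resLE_comp_ι_assoc, Over.w])
  have : Mono m := ⟨fun {T} a b h => by
    rw [← cancel_mono V.ι]
    refine hmono T _ _ ?_ ?_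
    · simpa [m] using congrArg (· ≫ pullback.fst _ _) h
    · simpa [m] using congrArg (· ≫ pullback.snd _ _ ≫ U₀.ι) h⟩
  have : IsAffine U₀.toScheme := hU₀
  have : IsAffine (ConstAct.specA R A).left := inferInstanceAs (IsAffine (Spec _))
  have : IsAffine (pullback (ConstAct.specA R A).hom (U₀.ι ≫ U.hom)) := inferInstance
  have : V.toScheme.IsSeparated := ⟨by
    rw [← terminal.comp_from m]
    infer_instance⟩
  have : IsSeparated (V.ι ≫ q.left) := IsSeparated.of_comp _ (terminal.from _) 
  have : Etale (V.ι ≫ q.left) := inferInstance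
  have := FlatMor66.lqf_of_etale (V.ι ≫ q.left)
  -- a stable affine open around the orbit
  let σV : G → (V.toScheme ⟶ V.toScheme) := fun g => (σ g).left.resLE V V (hσV g).ge
  have hσVι : ∀ g, σV g ≫ V.ι = V.ι ≫ (σ g).left := fun g => Scheme.Hom.resLE_comp_ι _ _
  have hσV1 : σV 1 = 𝟙 _ := by
    rw [← cancel_mono V.ι, hσVι, hσ1, Category.id_comp]
    exact Category.comp_id _
  have hσVm : ∀ g g', σV (g * g') = σV g ≫ σV g' := fun g g' => by
    rw [← cancel_mono V.ι, Category.assoc, hσVι, hσVι, reassoc_of% (hσVι g), hσ, Over.comp_left]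
  let F : Set V.toScheme := Set.range fun g => σV g ⟨x', hu⟩
  have hF : ∀ g, ∀ z ∈ F, σV g z ∈ F := by
    rintro g _ ⟨k, rfl⟩
    exact ⟨k * g, by show σV (k * g) _ = _; rw [hσVm]; rfl⟩
  obtain ⟨O, hO, hFO⟩ := exists_affineOpen_of_finite (Z := Spec (CommRingCat.of A)) (V.ι ≫ q.left) (F := F) (Set.finite_range _)
  obtain ⟨O', hO', hFO', hσO⟩ := exists_affineOpen_stable σV hσV1 hσVm hF O hO hFO
  let B : CommRingCat.{u} := Γ(V.toScheme, O')
  let e : Spec B ≅ O'.toScheme := hO'.isoSpec.symm
  obtain ⟨j, hj⟩ : ∃ j : Spec B ⟶ X'.left, j = e.hom ≫ O'.ι ≫ V.ι := ⟨_, rfl⟩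
  have : Etale (j ≫ q.left) := by rw [hj]; infer_instance
  have : Mono j := by rw [hj]; infer_instance
  obtain ⟨σB, hσB⟩ : ∃ σB : G → (Spec B ⟶ Spec B),
      σB = fun g => e.hom ≫ (σV g).resLE O' O' (hσO g).ge ≫ e.inv := ⟨_, rfl⟩
  have hσBj : ∀ g, σB g ≫ j = j ≫ (σ g).left := fun g => by
    simp only [hσB, hj, Category.assoc, Iso.inv_hom_id_assoc, Scheme.Hom.resLE_comp_ι_assoc, hσVι]
  have hx₀ : (⟨x', hu⟩ : V.toScheme) ∈ O' := hFO' ⟨1, by show σV 1 _ = _; rw [hσV1]; rfl⟩
  obtain ⟨Y', t, k, ht, hrange, hlift⟩ := exists_descent_of_affine R A G U B (j ≫ q.left) (j ≫ r.left)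
    (by rw [Category.assoc, Category.assoc, Over.w, Over.w]) U₀ hU₀ (by
      rintro _ ⟨z, rfl⟩
      rw [hj]
      exact ((O'.ι (e.hom z)).2 : V.ι (O'.ι (e.hom z)) ∈ V)) σB
    (by rw [← cancel_mono j, hσBj, hσ1, Category.id_comp]; exact Category.comp_id j)
    (fun g g' => by rw [← cancel_mono j, Category.assoc, hσBj, hσBj, reassoc_of% (hσBj g), hσ, Over.comp_left])
    (fun g => by rw [← Category.assoc, hσBj, Category.assoc, ← Over.comp_left, hσq, Over.comp_left, Category.assoc])
    (fun g => by rw [← Category.assoc, hσBj, Category.assoc, ← Over.comp_left, hσr])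
    (fun T a b h1 h2 => by
      rw [← cancel_mono j]
      exact hmono T _ _ (by simpa only [Category.assoc] using h1) (by simpa only [Category.assoc] using h2))
    (e.inv ⟨⟨x', hu⟩, hx₀⟩)
  refine ⟨Y', t, (yon SR).map k ≫ p, ht, ?_, fun W a b hab => ?_⟩
  · convert hrange using 2
    rw [← hx', ← Scheme.Hom.comp_apply]
    simp only [hj, Category.assoc, Iso.inv_hom_id_assoc]
    rfl
  · obtain ⟨w, hw2, hw3⟩ := hlift W a b hab
    let wX : W ⟶ X' := Over.homMk (w ≫ j) (by
      rw [← Over.w q, ← Category.assoc, Category.assoc w j, hw2, Over.w])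
    have hb : wX ≫ q = b := Over.OverMorphism.ext ((Category.assoc _ _ _).trans hw2)
    have ha : wX ≫ r = a ≫ k := Over.OverMorphism.ext ((Category.assoc _ _ _).trans hw3)
    rw [← Category.assoc, ← Functor.map_comp, ← ha, ← hb, Functor.map_comp, Functor.map_comp, Category.assoc,
      Category.assoc, sq.w]

end Groth.Agent.ConstFlat57
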