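import Groth.Agent.AlgSt88.QuotCoarse
import Groth.Agent.AlgSt88.FpMap

/-!
Base change of a quotient stack over its coarse space is again coarse when invariant maps descend.
-/

set_option autoImplicit false
set_option linter.style.haveILetI false
set_option backward.isDefEq.respectTransparency false
set_option backward.isDefEq.respectTransparency.types false
universe u

open CategoryTheory CategoryTheory.Limits MonoidalCategory CartesianMonoidalCategory AlgebraicGeometry AlgSt Opposite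
open FibCat

namespace Groth.Agent.ConstFlat57

open Groth.Agent.AlgSt88

variable {S : Scheme.{u}}

/-- An arrow of the category of a scheme over an arrow of the base. -/
theorem exists_ofSch_hom {Y : Over S} (η η' : (ofSch Y).obj) (b : η.base ⟶ η'.base)
    (hb : b ≫ η'.sec.down = η.sec.down) : ∃ m : η ⟶ η', m.hom = b :=
  ⟨⟨b, congrArg ULift.up hb⟩, rfl⟩

theorem sec_of_eq {M : AlgSp.Sp S} (z : (ofSp M).obj) {T : Over S} {s : M.obj.obj (op T)} (h : z = ⟨T, s⟩) :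
    M.obj.map (eqToHom (congrArg Stk.EltObj.base h).symm).op z.sec = s := by
  subst h; simp

theorem hom_of_lift {Y B : Over S} {a b : (ofSch Y).obj} (φ : a ⟶ b) (h : (ofSch Y).p.IsHomLift (𝟙 B) φ)
    (e : a.base = b.base) : φ.hom = eqToHom e := by
  have h' : φ.hom = _ := @IsHomLift.fac' _ _ _ _ (ofSch Y).p _ _ _ _ (𝟙 B) φ h
  rw [h', Category.id_comp]
  erw [eqToHom_trans]

variable {G X Y Y' P : Over S} [GrpObj G] [Flat G.hom] [LocallyOfFinitePresentation G.hom]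
  {a : AlgGrp.Action G X} (f : X ⟶ Y) (g : Y' ⟶ Y) (p₁ : P ⟶ Y') (p₂ : P ⟶ X)
  (π : QuotSt Scheme.fppfPrecoverage G a ⥤ᵇ ofSch Y)

theorem exists_fp_hom {T T' : Over S} (x x' : (fp (ofSpMap ((AlgSp.yon S).map g)) π).obj)
    (m₁ : x.obj.fst ⟶ x'.obj.fst) (e' : x.obj.snd ⟶ x'.obj.snd) (c : T ⟶ T')
    (hx : x.obj.fst.base = T) (hx' : x'.obj.fst.base = T') (hξ : x.obj.snd.base = T) (hξ' : x'.obj.snd.base = T')
    (hm₁ : m₁.hom = eqToHom hx ≫ c ≫ eqToHom hx'.symm)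
    (he' : (QuotSt Scheme.fppfPrecoverage G a).p.map e' = eqToHom hξ ≫ c ≫ eqToHom hξ'.symm) :
    ∃ m : x ⟶ x', m.hom.fst = m₁ := by
  refine ⟨ObjectProperty.homMk { fst := m₁, snd := e', w := Stk.EltObj.hom_ext ?_ }, rfl⟩
  show m₁.hom ≫ x'.obj.iso.hom.hom = x.obj.iso.hom.hom ≫ (π.map e').hom
  rw [hom_of_lift x'.obj.iso.hom x'.property (hx'.trans (((π.w_obj x'.obj.snd).trans hξ').symm)),
    hom_of_lift x.obj.iso.hom x.property (hx.trans (((π.w_obj x.obj.snd).trans hξ).symm)),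
    show (π.map e').hom = _ from p_map_eq π e', he', hm₁]
  simp

/-- The base change of a quotient stack is coarse when invariant maps descend. -/
theorem isCoarseModuli_fpFst (hP : IsPullback p₁.left p₂.left g.left f.left) (hbij : GeomPtBij π)
    (hlift : ∀ (Ω : Type u) [Field Ω] [IsAlgClosed Ω] (t : Spec (CommRingCat.of Ω) ⟶ S) (y : Over.mk t ⟶ Y),
      ∃ x : Over.mk t ⟶ X, x ≫ f = y)
    (hdesc : ∀ (N : AlgSp.Space S) (ψ : (AlgSp.yon S).obj P ⟶ N.obj),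
      (∀ (T : Over S) (x x' : T ⟶ P) (h : T ⟶ G), x ≫ p₁ = x' ≫ p₁ → lift h (x' ≫ p₂) ≫ a.act = x ≫ p₂ →
        atPt N.obj ψ x = atPt N.obj ψ x') →
      ∃! χ : (AlgSp.yon S).obj Y' ⟶ N.obj, (AlgSp.yon S).map p₁ ≫ χ = ψ)
    (hπ : BasedFunctor.comp (quotMap Scheme.fppfPrecoverage G a) π = ofSpMap ((AlgSp.yon S).map f)) :
    IsCoarseModuli (fpFst (ofSpMap ((AlgSp.yon S).map g)) π) := by
  have hcond : p₁ ≫ g = p₂ ≫ f := Over.OverMorphism.ext hP.w
  have hsq : BasedFunctor.comp (ofSpMap ((AlgSp.yon S).map p₁)) (ofSpMap ((AlgSp.yon S).map g)) =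
      BasedFunctor.comp (BasedFunctor.comp (ofSpMap ((AlgSp.yon S).map p₂)) (quotMap Scheme.fppfPrecoverage G a)) π := by
    rw [show BasedFunctor.comp (BasedFunctor.comp (ofSpMap ((AlgSp.yon S).map p₂))
        (quotMap Scheme.fppfPrecoverage G a)) π = BasedFunctor.comp (ofSpMap ((AlgSp.yon S).map p₂))
        (BasedFunctor.comp (quotMap Scheme.fppfPrecoverage G a) π) from rfl, hπ]
    show ofSpMap ((AlgSp.yon S).map p₁ ≫ (AlgSp.yon S).map g) =
      ofSpMap ((AlgSp.yon S).map p₂ ≫ (AlgSp.yon S).map f)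
    rw [← Functor.map_comp, ← Functor.map_comp, hcond]
  let j : ofSch P ⥤ᵇ fp (ofSpMap ((AlgSp.yon S).map g)) π :=
    fpLift (ofSpMap ((AlgSp.yon S).map p₁))
      (BasedFunctor.comp (ofSpMap ((AlgSp.yon S).map p₂)) (quotMap Scheme.fppfPrecoverage G a)) (eqToIso hsq)
  have hjfst : BasedFunctor.comp j (fpFst (ofSpMap ((AlgSp.yon S).map g)) π) =
      ofSpMap ((AlgSp.yon S).map p₁) := rfl
  -- lifting a point of the base change to the covering scheme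
  have hpair : ∀ {T : Over S} (y : T ⟶ Y') (q : T ⟶ X), y ≫ g = q ≫ f → ∃ l : T ⟶ P, l ≫ p₁ = y ∧ l ≫ p₂ = q := by
    intro T y q h
    have h0 : y.left ≫ g.left = q.left ≫ f.left := congrArg CommaMorphism.left h
    let l₀ := hP.lift y.left q.left h0
    have hl₁ : l₀ ≫ p₁.left = y.left := hP.lift_fst _ _ _
    exact ⟨Over.homMk l₀ (by rw [← Over.w p₁, ← Category.assoc, hl₁, Over.w]),
      Over.OverMorphism.ext hl₁, Over.OverMorphism.ext (hP.lift_snd _ _ _)⟩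
  refine ⟨⟨AlgSp.IsAlgSpace.yon_obj Y', fun N hN φ => ?_⟩, fun Ω _ _ t => ⟨fun m => ?_, fun x x' hxx => ?_⟩⟩
  · let gN := homOfBased (BasedFunctor.comp j φ)
    obtain ⟨β⟩ := exists_hom_iso (BasedFunctor.comp j φ)
    have h0 : BasedFunctor.comp j φ = ofSpMap gN := eq_of_iso_ofSp β
    have hval : ∀ {T : Over S} (l : T ⟶ P), φ.obj (j.obj (ptObj l)) = ⟨T, atPt N gN l⟩ := fun {T} l =>
      congrArg (fun F : ofSch P ⥤ᵇ ofSp N => F.obj (ptObj l)) h0
    -- invariance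
    have hinv : ∀ (T : Over S) (x x' : T ⟶ P) (h : T ⟶ G), x ≫ p₁ = x' ≫ p₁ →
        lift h (x' ≫ p₂) ≫ a.act = x ≫ p₂ → atPt N gN x = atPt N gN x' := by
      intro T x x' h h1 h2
      obtain ⟨e, he, -⟩ := exists_quot_iso a h (x ≫ p₂) (x' ≫ p₂) h2
      obtain ⟨m₁, hm₁⟩ := exists_ofSch_hom (j.obj (ptObj x)).obj.fst (j.obj (ptObj x')).obj.fst (𝟙 T)
        (show 𝟙 T ≫ x' ≫ p₁ = x ≫ p₁ by rw [Category.id_comp, h1])
      let e' : (j.obj (ptObj x)).obj.snd ⟶ (j.obj (ptObj x')).obj.snd := e.hom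
      have he' : (QuotSt Scheme.fppfPrecoverage G a).p.map e' = 𝟙 T := he
      obtain ⟨m, hm⟩ := exists_fp_hom g π (j.obj (ptObj x)) (j.obj (ptObj x')) m₁ e' (𝟙 T) rfl rfl rfl rfl
        (by rw [hm₁]; simp; rfl) (by rw [he']; simp; rfl)
      have key : ∀ (z z' : (ofSp N).obj) (s s' : N.obj.obj (op T)) (k : z ⟶ z') (hz : z = ⟨T, s⟩) (hz' : z' = ⟨T, s'⟩),
          k.hom = eqToHom ((congrArg Stk.EltObj.base hz).trans (congrArg Stk.EltObj.base hz').symm) → s = s' := by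
        intro z z' s s' k hz hz' hk
        subst hz hz'
        have h' := k.map_sec
        rw [hk] at h'
        simpa using h'.symm
      refine key _ _ _ _ (φ.map m) (hval x) (hval x') ?_
      have hk : (φ.map m).hom = eqToHom (φ.w_obj _) ≫ m₁.hom ≫ eqToHom (φ.w_obj _).symm :=
        (Functor.congr_hom φ.w m).trans (by rw [← hm]; rfl)
      rw [hk, hm₁]
      erw [Category.id_comp, eqToHom_trans]
    obtain ⟨χ, hχ, hχu⟩ := hdesc ⟨N, hN⟩ gN hinv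
    refine ⟨χ, ⟨eqToIso ?_⟩, fun χ' hχ' => hχu χ' ?_⟩
    · refine basedFunctor_ext_ofSp fun x => ?_
      obtain ⟨⟨⟨B, ⟨b⟩⟩, ξ, i⟩, hi⟩ := x
      have hs : ξ.base = B := (fpSnd (ofSpMap ((AlgSp.yon S).map g)) π).w_obj ⟨⟨⟨B, ⟨b⟩⟩, ξ, i⟩, hi⟩
      subst hs
      let x : (fp (ofSpMap ((AlgSp.yon S).map g)) π).obj := ⟨⟨⟨ξ.base, ⟨b⟩⟩, ξ, i⟩, hi⟩
      have hb : (φ.obj x).base = ξ.base := φ.w_obj x
      let s : N.obj.obj (op ξ.base) := N.obj.map (eqToHom hb.symm).op (φ.obj x).sec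
      rw [eq_mk_of_base_eq (φ.obj x) hb]
      show (⟨ξ.base, χ.hom.app (op ξ.base) ⟨b⟩⟩ : (ofSp N).obj) = ⟨ξ.base, s⟩
      refine congrArg (Stk.EltObj.mk ξ.base) ?_
      obtain ⟨Rc, hRc, hcov⟩ := exists_triv_hom a ξ
      have hsur : ∀ z : ↥ξ.base.left, ∃ (T' : Scheme.{u}) (c : T' ⟶ ξ.base.left), Rc c ∧ z ∈ Set.range c := fun z => by
        have : Scheme.JointlySurjective Scheme.fppfPrecoverage.{u} :=
          inferInstanceAs (Scheme.JointlySurjective (Scheme.precoverage _))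
        obtain ⟨T', c, hc, hz⟩ := Scheme.JointlySurjective.exists_eq Rc hRc z
        exact ⟨T', c, hc, hz⟩
      choose T' c hc hz using hsur
      let V : ↥ξ.base.left → Over S := fun z => Over.mk (c z ≫ ξ.base.hom)
      let cV : ∀ z, V z ⟶ ξ.base := fun z => Over.homMk (c z) rfl
      have hmem : Sieve.ofArrows V cV ∈ AlgSp.J S ξ.base :=
        SpFP87.ofArrows_mem_of_fppf V cV (fun z => hRc.2 (hc z)) fun z => ⟨z, hz z⟩
      have hsh : Presieve.IsSheafFor N.obj (Presieve.ofArrows V cV) :=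
        Presieve.isSheafFor_iff_generate _ |>.2 ((isSheaf_iff_isSheaf_of_type _ _).1 N.property _ hmem)
      refine hsh.isSeparatedFor.ext ?_
      rintro W m ⟨z⟩
      obtain ⟨q, h, hh⟩ := hcov (c z) (hc z)
      -- the section of the invariants over the chart
      have hπξ : (π.obj ξ).base = ξ.base := π.w_obj ξ
      have hi' : i.hom.hom = eqToHom hπξ.symm := by
        exact hom_of_lift i.hom hi _
      have hbsec : i.hom.hom ≫ (π.obj ξ).sec.down = b ≫ g := congrArg ULift.down i.hom.map_sec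
      have htriv : π.obj ((quotMap Scheme.fppfPrecoverage G a).obj (ptObj q)) = ⟨V z, ⟨q ≫ f⟩⟩ := by
        have h0 := congrArg (fun F => (BasedFunctor.toFunctor F).obj (ptObj q)) hπ
        exact h0
      have hq : cV z ≫ b ≫ g = q ≫ f := by
        have h1 : (π.map h).hom = _ := p_map_eq π h
        have h2 := congrArg ULift.down (π.map h).map_sec
        have h3 := congrArg ULift.down (sec_of_eq (M := (AlgSp.yon S).obj _)
          (π.obj ((quotMap Scheme.fppfPrecoverage G a).obj (ptObj q))) htriv)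
        change h.base = cV z at hh
        change (π.map h).hom ≫ (π.obj ξ).sec.down = (π.obj ((quotMap Scheme.fppfPrecoverage G a).obj (ptObj q))).sec.down at h2
        change eqToHom (congrArg Stk.EltObj.base htriv).symm ≫ (π.obj ((quotMap Scheme.fppfPrecoverage G a).obj (ptObj q))).sec.down = q ≫ f at h3
        rw [h1] at h2
        rw [← h3, ← h2, ← hbsec, hi']
        show cV z ≫ _ = _
        rw [← hh]
        simp
        rfl
      obtain ⟨l, hl₁, hl₂⟩ := hpair (cV z ≫ b) q (by rw [Category.assoc, hq])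
      subst hl₂
      obtain ⟨m₁, hm₁⟩ := exists_ofSch_hom (j.obj (ptObj l)).obj.fst x.obj.fst (cV z)
        (show cV z ≫ b = l ≫ p₁ from hl₁.symm)
      obtain ⟨mm, hmm⟩ := exists_fp_hom g π (j.obj (ptObj l)) x m₁ h (cV z) rfl rfl rfl rfl
        (by rw [hm₁]; simp) ((show (QuotSt Scheme.fppfPrecoverage G a).p.map h = cV z from hh).trans (by simp))
      have hk : (φ.map mm).hom = eqToHom (φ.w_obj _) ≫ m₁.hom ≫ eqToHom (φ.w_obj _).symm :=
        (Functor.congr_hom φ.w mm).trans (by rw [← hmm]; rfl)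
      have hs' := sec_transport (φ.map mm) (φ.w_obj _).symm hb.symm (cV z) (by
        rw [hk, hm₁])
      show N.obj.map (cV z).op (χ.hom.app (op ξ.base) ⟨b⟩) = N.obj.map (cV z).op s
      rw [show N.obj.map (cV z).op s = N.obj.map (eqToHom (φ.w_obj (j.obj (ptObj l))).symm).op
          (φ.obj (j.obj (ptObj l))).sec from hs']
      refine Eq.trans ?_ (sec_of_eq _ (hval l)).symm
      have hχl : atPt N gN l = atPt N χ (l ≫ p₁) :=
        (congrArg (fun ψ : (AlgSp.yon S).obj P ⟶ N => atPt N ψ l) hχ).symm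
      exact (map_atPt N χ (cV z) b).trans (by rw [hχl, hl₁])
    · obtain ⟨α⟩ := hχ'
      refine ofSpMap_injective ?_
      rw [← h0, ← eq_of_iso_ofSp α]
      rfl
  · obtain ⟨y⟩ := m
    obtain ⟨x, hx⟩ := hlift Ω t (y ≫ g)
    obtain ⟨l, hl₁, -⟩ := hpair y x hx.symm
    refine ⟨⟨j.obj (ptObj l), rfl⟩, ?_⟩
    have h1 : (fpFst (ofSpMap ((AlgSp.yon S).map g)) π).obj (j.obj (ptObj l)) = ⟨Over.mk t, ⟨l ≫ p₁⟩⟩ := rfl
    rw [← hl₁]
    exact sec_of_eq _ h1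
  · obtain ⟨⟨⟨⟨B, ⟨b⟩⟩, ξ, i⟩, hi⟩, hB⟩ := x
    obtain ⟨⟨⟨⟨B', ⟨b'⟩⟩, ξ', i'⟩, hi'⟩, hB'⟩ := x'
    change B = Over.mk t at hB
    change B' = Over.mk t at hB'
    subst hB hB'
    have hb : b = b' := by
      have h1 := congrArg ULift.down hxx
      change 𝟙 (Over.mk t) ≫ b = 𝟙 (Over.mk t) ≫ b' at h1
      simpa using h1
    subst hb
    have hξ : ξ.base = Over.mk t := (fpSnd (ofSpMap ((AlgSp.yon S).map g)) π).w_obj ⟨⟨⟨_, ⟨b⟩⟩, ξ, i⟩, hi⟩
    have hξ' : ξ'.base = Over.mk t := (fpSnd (ofSpMap ((AlgSp.yon S).map g)) π).w_obj ⟨⟨⟨_, ⟨b⟩⟩, ξ', i'⟩, hi'⟩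
    have hio : ∀ (ζ : (QuotSt Scheme.fppfPrecoverage G a).obj) (hζ : ζ.base = Over.mk t)
        (k : (⟨Over.mk t, ⟨b ≫ g⟩⟩ : (ofSch Y).obj) ⟶ π.obj ζ)
        (hk : k.hom = eqToHom ((π.w_obj ζ).trans hζ).symm),
        fibSec π (⟨ζ, hζ⟩ : (QuotSt Scheme.fppfPrecoverage G a).p.Fiber (Over.mk t)) = ⟨b ≫ g⟩ := by
      intro ζ hζ k hk
      have h := k.map_sec
      rw [hk] at h
      exact h
    have hih : i.hom.hom = eqToHom ((π.w_obj ξ).trans hξ).symm := by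
      exact hom_of_lift i.hom hi _
    have hih' : i'.hom.hom = eqToHom ((π.w_obj ξ').trans hξ').symm := by
      exact hom_of_lift i'.hom hi' _
    obtain ⟨e⟩ := (hbij Ω t).2 ⟨ξ, hξ⟩ ⟨ξ', hξ'⟩ ((hio ξ hξ i.hom hih).trans (hio ξ' hξ' i'.hom hih').symm)
    have he : ∀ (ζ ζ' : (QuotSt Scheme.fppfPrecoverage G a).p.Fiber (Over.mk t)) (d : ζ ⟶ ζ'),
        (QuotSt Scheme.fppfPrecoverage G a).p.map d.1 = eqToHom (ζ.2.trans ζ'.2.symm) := fun ζ ζ' d => by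
      haveI := d.2
      simpa using IsHomLift.fac' (QuotSt Scheme.fppfPrecoverage G a).p (𝟙 (Over.mk t)) d.1
    have hw : ∀ {ζ ζ' : (QuotSt Scheme.fppfPrecoverage G a).obj} (hζ : ζ.base = Over.mk t) (hζ' : ζ'.base = Over.mk t)
        (k : (⟨Over.mk t, ⟨b ≫ g⟩⟩ : (ofSch Y).obj) ≅ π.obj ζ) (k' : (⟨Over.mk t, ⟨b ≫ g⟩⟩ : (ofSch Y).obj) ≅ π.obj ζ')
        (d : ζ ⟶ ζ'), k.hom.hom = eqToHom ((π.w_obj ζ).trans hζ).symm →
        k'.hom.hom = eqToHom ((π.w_obj ζ').trans hζ').symm →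
        (QuotSt Scheme.fppfPrecoverage G a).p.map d = eqToHom (hζ.trans hζ'.symm) →
        (ofSpMap ((AlgSp.yon S).map g)).map (𝟙 (⟨Over.mk t, ⟨b⟩⟩ : (ofSch Y').obj)) ≫ k'.hom = k.hom ≫ π.map d := by
      intro ζ ζ' hζ hζ' k k' d hk hk' hd
      refine Stk.EltObj.hom_ext ?_
      show 𝟙 (Over.mk t) ≫ k'.hom.hom = k.hom.hom ≫ (π.map d).hom
      have h6 : (π.map d).hom = _ := p_map_eq π d
      rw [h6, hk, hk', hd]
      simp
    let u₁ : (⟨⟨⟨_, ⟨b⟩⟩, ξ, i⟩, hi⟩ : (fp (ofSpMap ((AlgSp.yon S).map g)) π).obj) ⟶ ⟨⟨⟨_, ⟨b⟩⟩, ξ', i'⟩, hi'⟩ :=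
      ObjectProperty.homMk { fst := 𝟙 _, snd := e.hom.1, w := hw hξ hξ' i i' e.hom.1 hih hih' (he _ _ e.hom) }
    let u₂ : (⟨⟨⟨_, ⟨b⟩⟩, ξ', i'⟩, hi'⟩ : (fp (ofSpMap ((AlgSp.yon S).map g)) π).obj) ⟶ ⟨⟨⟨_, ⟨b⟩⟩, ξ, i⟩, hi⟩ :=
      ObjectProperty.homMk { fst := 𝟙 _, snd := e.inv.1, w := hw hξ' hξ i' i e.inv.1 hih' hih (he _ _ e.inv) }
    have hl₁ : (fp (ofSpMap ((AlgSp.yon S).map g)) π).p.IsHomLift (𝟙 (Over.mk t)) u₁ :=
      IsHomLift.of_fac' _ _ _ rfl rfl (by simp; rfl)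
    have hl₂ : (fp (ofSpMap ((AlgSp.yon S).map g)) π).p.IsHomLift (𝟙 (Over.mk t)) u₂ :=
      IsHomLift.of_fac' _ _ _ rfl rfl (by simp; rfl)
    exact ⟨{ hom := ⟨u₁, hl₁⟩, inv := ⟨u₂, hl₂⟩
             hom_inv_id := Subtype.ext (fpHom_ext (Category.id_comp _) (congrArg Subtype.val e.hom_inv_id))
             inv_hom_id := Subtype.ext (fpHom_ext (Category.id_comp _) (congrArg Subtype.val e.inv_hom_id)) }⟩

end Groth.Agent.ConstFlat57
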