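import Groth.Agent.ConstFlat57.Chart
import Groth.Agent.ConstQuot97.Descent

/-!
Invariant maps to algebraic spaces descend to the invariants of an algebra finite over them (no noetherian
hypothesis).  The gluing of the charts is the one of `Groth.Agent.ConstQuot97.existsUnique_desc`.
-/

set_option autoImplicit false
set_option maxHeartbeats 1000000
set_option backward.isDefEq.respectTransparency false
set_option backward.isDefEq.respectTransparency.types false
universe u

open CategoryTheory CategoryTheory.Limits AlgebraicGeometry Opposite TopologicalSpace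
open AlgSp Groth.Agent.SpFP87

noncomputable section

namespace Groth.Agent.ConstFlat57

open Groth.Agent.ConstQuot97

variable {R : Type u} [CommRing R] {A : Type u} [CommRing A] [Algebra R A]
variable {G : Type u} [Group G] [Finite G] [MulSemiringAction G A] [SMulCommClass G R A]
  [Module.Finite (ConstAct.inv R A G) A]

local notation "SR" => Spec (CommRingCat.of R)

/-- Invariant maps from `Spec A` to an algebraic space factor uniquely through `Spec A^G`. -/
theorem existsUnique_desc {N : Sp SR} (hN : IsAlgSpace N) (ψ : (yon SR).obj (ConstAct.specA R A) ⟶ N)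
    (hψ : ∀ g : G, (yon SR).map (ConstAct.act R A G g) ≫ ψ = ψ) :
    ∃! χ : (yon SR).obj (ConstAct.specInv R A G) ⟶ N, (yon SR).map (ConstAct.quot R A G) ≫ χ = ψ := by
  have := isIntegralHom_quot (R := R) (A := A) (G := G)
  have := surjective_quot (R := R) (A := A) (G := G)
  choose Y t χ ht hx hχ using ConstFlat57.exists_chart hN ψ hψ
  have hcov : fppfSurj (SpPts86.sigmaOut t).left := SpPts86.fppfSurj_sigmaOut t
    (fun x => by haveI := ht x; exact ⟨inferInstance, inferInstance⟩)
    (fun y => by
      obtain ⟨x, rfl⟩ := (ConstAct.quot R A G).left.surjective y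
      exact ⟨x, hx x⟩)
  obtain ⟨L, hL⟩ := SpPts86.sigma_glue Y χ
  let T := SpPts86.sigmaOver Y
  let c : T ⟶ ConstAct.specInv R A G := SpPts86.sigmaOut t
  have hc : Etale c.left := IsZariskiLocalAtSource.sigmaDesc (P := @Etale) fun x => ht x
  -- the defining property passes to the disjoint union
  have hoi : ∀ x, IsOpenImmersion (SpPts86.sigmaIn Y x).left := fun x =>
    inferInstanceAs (IsOpenImmersion (Sigma.ι (fun x => (Y x).left) x))
  have hT : ∀ (W : Over SR) (a : W ⟶ T) (b : W ⟶ ConstAct.specA R A), a ≫ c = b ≫ ConstAct.quot R A G →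
      (yon SR).map a ≫ L = (yon SR).map b ≫ ψ := by
    intro W a b hab
    refine SpPts86.open_cover_hom_ext (fun x => Over.mk ((a.left ⁻¹ᵁ (SpPts86.sigmaIn Y x).left.opensRange).ι ≫ W.hom))
      (fun x => Over.homMk (a.left ⁻¹ᵁ (SpPts86.sigmaIn Y x).left.opensRange).ι rfl)
      (fun x => inferInstanceAs (IsOpenImmersion (Scheme.Opens.ι _))) (fun w => ?_) (fun x => ?_)
    · obtain ⟨⟨x, v⟩, hv⟩ := (sigmaMk (fun x => (Y x).left)).surjective (a.left w)
      have hw : w ∈ a.left ⁻¹ᵁ (SpPts86.sigmaIn Y x).left.opensRange :=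
        ⟨v, by rw [← hv, sigmaMk_mk]; rfl⟩
      exact ⟨x, ⟨w, hw⟩, rfl⟩
    · let V := a.left ⁻¹ᵁ (SpPts86.sigmaIn Y x).left.opensRange
      let e : Over.mk (V.ι ≫ W.hom) ⟶ W := Over.homMk V.ι rfl
      let l₀ : V.toScheme ⟶ (Y x).left := IsOpenImmersion.lift (SpPts86.sigmaIn Y x).left (V.ι ≫ a.left) (by
        rintro _ ⟨z, rfl⟩; exact z.2)
      have hl₀ : l₀ ≫ (SpPts86.sigmaIn Y x).left = V.ι ≫ a.left := IsOpenImmersion.lift_fac _ _ _
      let l : Over.mk (V.ι ≫ W.hom) ⟶ Y x := Over.homMk l₀ (by
        rw [← Over.w (SpPts86.sigmaIn Y x), ← Category.assoc, hl₀, Category.assoc, Over.w]; rfl)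
      have hl : l ≫ SpPts86.sigmaIn Y x = e ≫ a := Over.OverMorphism.ext hl₀
      show (yon SR).map e ≫ _ = (yon SR).map e ≫ _
      rw [← Category.assoc, ← Functor.map_comp, ← hl, Functor.map_comp, Category.assoc, hL,
        hχ x _ l (e ≫ b) (by rw [← SpPts86.sigmaIn_out t x, ← Category.assoc, hl, Category.assoc, hab,
          Category.assoc]), Functor.map_comp, Category.assoc]
  -- compatibility
  obtain ⟨χ', hχ', -⟩ := cover_existsUnique_desc c hcov L fun Z p₁ p₂ hp => by
    let E : Over SR := Over.mk (pullback.fst c.left c.left ≫ T.hom)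
    let e₁ : E ⟶ T := Over.homMk (pullback.fst c.left c.left) rfl
    let e₂ : E ⟶ T := Over.homMk (pullback.snd c.left c.left) (by
      show _ = pullback.fst c.left c.left ≫ T.hom
      rw [← Over.w c, ← Category.assoc, ← Category.assoc, pullback.condition])
    have hE : e₁ ≫ c = e₂ ≫ c := Over.OverMorphism.ext pullback.condition
    have : Flat (e₁ ≫ c).left := inferInstanceAs (Flat (pullback.fst c.left c.left ≫ c.left))
    have key : (yon SR).map e₁ ≫ L = (yon SR).map e₂ ≫ L :=
      hom_eq_of_flat hN (e₁ ≫ c) _ _ fun P p q hpq => by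
        rw [← Category.assoc, ← Category.assoc, ← Functor.map_comp, ← Functor.map_comp,
          hT P (p ≫ e₁) q (by rw [Category.assoc]; exact hpq),
          hT P (p ≫ e₂) q (by rw [Category.assoc, ← hE]; exact hpq)]
    let z : Z ⟶ E := Over.homMk (pullback.lift p₁.left p₂.left (congrArg CommaMorphism.left hp)) (by
      show _ ≫ pullback.fst _ _ ≫ T.hom = _
      rw [pullback.lift_fst_assoc, Over.w])
    have h1 : z ≫ e₁ = p₁ := Over.OverMorphism.ext (pullback.lift_fst _ _ _)
    have h2 : z ≫ e₂ = p₂ := Over.OverMorphism.ext (pullback.lift_snd _ _ _)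
    rw [← h1, ← h2, Functor.map_comp, Functor.map_comp, Category.assoc, Category.assoc, key]
  have hfac : (yon SR).map (ConstAct.quot R A G) ≫ χ' = ψ := by
    let P : Over SR := Over.mk (pullback.snd c.left (ConstAct.quot R A G).left ≫ (ConstAct.specA R A).hom)
    let p : P ⟶ ConstAct.specA R A := Over.homMk (pullback.snd c.left (ConstAct.quot R A G).left) rfl
    let q : P ⟶ T := Over.homMk (pullback.fst c.left (ConstAct.quot R A G).left) (by
      show _ = pullback.snd c.left _ ≫ (ConstAct.specA R A).hom
      rw [← Over.w c, ← Over.w (ConstAct.quot R A G), ← Category.assoc, ← Category.assoc, pullback.condition])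
    have hpq : q ≫ c = p ≫ ConstAct.quot R A G := Over.OverMorphism.ext pullback.condition
    have hpc : fppfSurj p.left := by
      obtain ⟨_, _, _⟩ := (fppfSurj_iff _).1 hcov
      exact (fppfSurj_iff _).2 ⟨inferInstanceAs (Surjective (pullback.snd _ _)), inferInstanceAs (Flat (pullback.snd _ _)),
        inferInstanceAs (LocallyOfFinitePresentation (pullback.snd _ _))⟩
    refine cover_hom_ext p hpc ?_
    rw [← Category.assoc, ← Functor.map_comp, ← hpq, Functor.map_comp, Category.assoc, hχ', hT P q p hpq]
  refine ⟨χ', hfac, fun χ'' h'' => ?_⟩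
  exact sp_hom_eq_of_integral hN (ConstAct.quot R A G) (dominant_quot (R := R) (A := A) (G := G)).ker_eq_bot _ _
    (h''.trans hfac.symm)

end Groth.Agent.ConstFlat57
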