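import Groth.Agent.Henz21.Flat
import Mathlib.Algebra.Category.ModuleCat.FilteredColimits
import Mathlib.Algebra.Category.ModuleCat.Colimits
import Mathlib.LinearAlgebra.TensorProduct.Associator

/-!
Tensor products with the colimit `H R K` and its finite stages.
-/

set_option autoImplicit false
universe u

open CategoryTheory CategoryTheory.Limits TensorProduct

noncomputable section

namespace Groth.Agent.ConstFlat57

open Groth.Agent.Henz21

variable (R K : Type u) [CommRing R] [CommRing K] [Algebra R K] (M : Type u) [AddCommGroup M] [Module R M]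

/-- The tensor products of a module with the stages. -/
def tensorDiagram : Pt R K ⥤ ModuleCat.{u} R where
  obj i := ModuleCat.of R (i.S ⊗[R] M)
  map f := ModuleCat.ofHom (f.φ.toLinearMap.rTensor M)
  map_id i := by
    refine ModuleCat.hom_ext ?_
    exact LinearMap.rTensor_id M i.S
  map_comp f g := by
    refine ModuleCat.hom_ext ?_
    exact LinearMap.rTensor_comp M g.φ.toLinearMap f.φ.toLinearMap

variable {R K M}

/-- An element of a stage vanishing in the limit vanishes at a later stage. -/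
theorem exists_stage_eq_zero (i : Pt R K) (w : i.S ⊗[R] M) (hw : (H.incl i).toLinearMap.rTensor M w = 0) :
    ∃ (k : Pt R K) (f : i ⟶ k), f.φ.toLinearMap.rTensor M w = 0 := by
  let D := tensorDiagram R K M
  let L : ModuleCat.{u} R := colimit D
  let ιL : ∀ i : Pt R K, i.S ⊗[R] M →ₗ[R] L := fun i => (colimit.ι D i).hom
  have hι : ∀ {i k : Pt R K} (f : i ⟶ k) (z : i.S ⊗[R] M),
      ιL k (f.φ.toLinearMap.rTensor M z) = ιL i z := fun f z =>
    congrArg (fun m => m.hom z) (colimit.w D f)
  choose j s hs using fun x : H R K => H.exists_rep x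
  let β : H R K → M → L := fun x m => ιL (j x) (s x ⊗ₜ[R] m)
  have hβ : ∀ (i : Pt R K) (t : i.S) (m : M), β (H.incl i t) m = ιL i (t ⊗ₜ[R] m) := by
    intro i t m
    obtain ⟨k, f, g, hfg⟩ := (H.incl_eq_iff (s (H.incl i t)) t).1 (hs _)
    show ιL (j (H.incl i t)) (s (H.incl i t) ⊗ₜ[R] m) = _
    rw [← hι f, ← hι g, LinearMap.rTensor_tmul, LinearMap.rTensor_tmul, AlgHom.toLinearMap_apply,
      AlgHom.toLinearMap_apply, hfg]
  let B : H R K →ₗ[R] M →ₗ[R] L := LinearMap.mk₂ R β
    (fun x y m => by
      obtain ⟨i, a, b, rfl, rfl⟩ := H.exists_rep_two x y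
      rw [← map_add, hβ, hβ, hβ, TensorProduct.add_tmul, map_add])
    (fun c x m => by
      obtain ⟨i, a, rfl⟩ := H.exists_rep x
      rw [← map_smul, hβ, hβ, ← TensorProduct.smul_tmul', map_smul])
    (fun x m m' => by
      show ιL (j x) (s x ⊗ₜ[R] (m + m')) = _
      rw [TensorProduct.tmul_add, map_add])
    (fun c x m => by
      show ιL (j x) (s x ⊗ₜ[R] (c • m)) = _
      rw [TensorProduct.tmul_smul, map_smul])
  have h1 : (TensorProduct.lift B) ∘ₗ ((H.incl i).toLinearMap.rTensor M) = ιL i :=
    TensorProduct.ext' fun t m => by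
      rw [LinearMap.comp_apply, LinearMap.rTensor_tmul, TensorProduct.lift.tmul]
      exact hβ i t m
  have h2 : ιL i w = ιL i (0 : i.S ⊗[R] M) := by
    rw [map_zero, ← h1, LinearMap.comp_apply, hw, map_zero]
  obtain ⟨k, f, g, hfg⟩ := Concrete.colimit_exists_of_rep_eq D w (0 : i.S ⊗[R] M) h2
  exact ⟨k, f, hfg.trans (map_zero _)⟩

/-- An element of the limit comes from a stage. -/
theorem exists_stage_rep (z : H R K ⊗[R] M) :
    ∃ (i : Pt R K) (w : i.S ⊗[R] M), (H.incl i).toLinearMap.rTensor M w = z := by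
  obtain ⟨i, w, hw⟩ := H.exists_lTensor_rep (TensorProduct.comm R (H R K) M z)
  refine ⟨i, TensorProduct.comm R M i.S w, ?_⟩
  apply (TensorProduct.comm R (H R K) M).injective
  rw [← hw]
  clear hw
  induction w using TensorProduct.induction_on with
  | zero => simp
  | tmul m t => simp
  | add x y hx hy => simp only [map_add, hx, hy]

/-- Finitely many elements come from one stage. -/
theorem exists_stage_rep_family {ι : Type*} [Finite ι] (z : ι → H R K ⊗[R] M) :
    ∃ (i : Pt R K) (w : ι → i.S ⊗[R] M), ∀ a, (H.incl i).toLinearMap.rTensor M (w a) = z a := by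
  classical
  choose j w hw using fun a => exists_stage_rep (z a)
  have : Fintype ι := Fintype.ofFinite ι
  obtain ⟨k, hk⟩ := IsFiltered.sup_objs_exists (Finset.univ.image j)
  refine ⟨k, fun a => (hk (Finset.mem_image_of_mem j (Finset.mem_univ a))).some.φ.toLinearMap.rTensor M (w a),
    fun a => ?_⟩
  rw [← LinearMap.rTensor_comp_apply, ← AlgHom.comp_toLinearMap, H.incl_comp, hw]

/-- Finitely many elements vanishing in the limit vanish at one stage. -/
theorem exists_stage_eq_zero_family {ι : Type*} [Finite ι] (i : Pt R K) (w : ι → i.S ⊗[R] M)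
    (hw : ∀ a, (H.incl i).toLinearMap.rTensor M (w a) = 0) :
    ∃ (k : Pt R K) (f : i ⟶ k), ∀ a, f.φ.toLinearMap.rTensor M (w a) = 0 := by
  classical
  choose j f hf using fun a => exists_stage_eq_zero i (w a) (hw a)
  have : Fintype ι := Fintype.ofFinite ι
  let O : Finset (Pt R K) := insert i (Finset.univ.image j)
  let ms : Finset ((X : Pt R K) ×' (Y : Pt R K) ×' (_ : X ∈ O) ×' (_ : Y ∈ O) ×' (X ⟶ Y)) :=
    Finset.univ.image fun a => ⟨i, j a, Finset.mem_insert_self _ _,
      Finset.mem_insert_of_mem (Finset.mem_image_of_mem j (Finset.mem_univ a)), f a⟩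
  obtain ⟨k, T, hT⟩ := IsFiltered.sup_exists O ms
  refine ⟨k, T (Finset.mem_insert_self _ _), fun a => ?_⟩
  rw [← hT (Finset.mem_insert_self _ _) (Finset.mem_insert_of_mem (Finset.mem_image_of_mem j (Finset.mem_univ a)))
    (Finset.mem_image_of_mem (fun a => (⟨i, j a, Finset.mem_insert_self _ _,
      Finset.mem_insert_of_mem (Finset.mem_image_of_mem j (Finset.mem_univ a)), f a⟩ :
      (X : Pt R K) ×' (Y : Pt R K) ×' (_ : X ∈ O) ×' (_ : Y ∈ O) ×' (X ⟶ Y))) (Finset.mem_univ a)),
    Pt.comp_φ, AlgHom.comp_toLinearMap, LinearMap.rTensor_comp_apply, hf, map_zero]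

end Groth.Agent.ConstFlat57
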