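import Groth.Agent.ConstFlat57.Descent
import Groth.Agent.FinGrp34.BaseChangeAct

/-!
Flat affine base change of the quotient map of a finite group is again a categorical quotient in algebraic spaces.
-/

set_option autoImplicit false
set_option maxHeartbeats 1000000
set_option backward.isDefEq.respectTransparency false
set_option backward.isDefEq.respectTransparency.types false
set_option linter.style.haveILetI false
universe u

open CategoryTheory CategoryTheory.Limits AlgebraicGeometry Opposite
open AlgSp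
open scoped TensorProduct

noncomputable section

namespace Groth.Agent.ConstFlat57

variable {R : Type u} [CommRing R] {A : Type u} [CommRing A] [Algebra R A]
variable {G : Type u} [Group G] [Finite G] [MulSemiringAction G A] [SMulCommClass G R A]
  [Module.Finite (ConstAct.inv R A G) A]

local notation "SR" => Spec (CommRingCat.of R)

/-- The ring form: the universal property for the spectrum of a flat algebra over the invariants. -/
theorem existsUnique_desc_tensor (B' : Type u) [CommRing B'] [Algebra R B'] [Algebra (ConstAct.inv R A G) B']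
    [IsScalarTower R (ConstAct.inv R A G) B'] [Module.Flat (ConstAct.inv R A G) B']
    {N : Sp SR} (hN : IsAlgSpace N) (P Y' : Over SR) (p₁ : P ⟶ Y') (p₂ : P ⟶ ConstAct.specA R A) (σ : G → (P ⟶ P))
    (hσ₁ : ∀ g, σ g ≫ p₁ = p₁) (hσ₂ : ∀ g, σ g ≫ p₂ = p₂ ≫ ConstAct.act R A G g)
    (eY : Y'.left ≅ Spec (CommRingCat.of B'))
    (heY : eY.hom ≫ Spec.map (CommRingCat.ofHom (algebraMap R B')) = Y'.hom)
    (hP : IsPullback p₁.left p₂.left
      (eY.hom ≫ Spec.map (CommRingCat.ofHom (algebraMap (ConstAct.inv R A G) B'))) (ConstAct.quot R A G).left)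
    (ψ : (yon SR).obj P ⟶ N) (hψ : ∀ g, (yon SR).map (σ g) ≫ ψ = ψ) :
    ∃! χ : (yon SR).obj Y' ⟶ N, (yon SR).map p₁ ≫ χ = ψ := by
  classical
  let C := ConstAct.inv R A G
  haveI := FinGrp34.fixed_smulComm R A G
  let A' := B' ⊗[C] A
  letI : MulSemiringAction G A' := FinGrp34.bcAct C B' A G
  haveI : SMulCommClass G B' A' := FinGrp34.bcAct_smulComm C B' A G
  haveI : SMulCommClass G R A' := ⟨fun g r z => by
    rw [← IsScalarTower.algebraMap_smul B' r z, smul_comm g, IsScalarTower.algebraMap_smul]⟩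
  let iB : B' →ₐ[C] A' := Algebra.TensorProduct.includeLeft
  let C' := ConstAct.inv R A' G
  have hmem : ∀ b : B', iB b ∈ C' := fun b g => by
    show Algebra.TensorProduct.map (AlgHom.id B' B') (MulSemiringAction.toAlgHom C A g) (b ⊗ₜ[C] (1 : A)) = _
    rw [Algebra.TensorProduct.map_tmul, map_one]
    rfl
  let jB : B' →+* C' := iB.toRingHom.codRestrict C'.toSubring hmem
  have hjB : Function.Bijective jB := by
    constructor
    · intro b b' h
      have h' : iB b = iB b' := congrArg Subtype.val h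
      have hi := Module.Flat.lTensor_preserves_injective_linearMap (M := B') (Algebra.linearMap C A)
        Subtype.val_injective
      refine (TensorProduct.rid C B').symm.injective (hi ?_)
      have h'' : b ⊗ₜ[C] (1 : A) = b' ⊗ₜ 1 := h'
      simpa using h''
    · rintro ⟨z, hz⟩
      obtain ⟨w, hw⟩ := FinGrp34.exists_of_fixed C B' A G C (IsScalarTower.toAlgHom C C A)
        (fun m hm => ⟨⟨m, hm⟩, rfl⟩) z hz
      refine ⟨TensorProduct.rid C B' w, Subtype.ext ?_⟩
      show iB (TensorProduct.rid C B' w) = z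
      rw [← hw]
      clear hw hz
      induction w using TensorProduct.induction_on with
      | zero => simp
      | tmul e c =>
        show (TensorProduct.rid C B' (e ⊗ₜ c)) ⊗ₜ (1 : A) = e ⊗ₜ algebraMap C A c
        rw [TensorProduct.rid_tmul, TensorProduct.smul_tmul, Algebra.smul_def, _root_.mul_one]
      | add p q hp hq => simp only [map_add, hp, hq]
  letI : Algebra B' C' := jB.toAlgebra
  haveI : IsScalarTower B' C' A' := ⟨fun b c z => by
    show (iB b * (c : A')) * z = b • ((c : A') * z)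
    refine (_root_.mul_assoc _ _ _).trans ?_
    exact (Algebra.smul_def (A := A') b _).symm⟩
  haveI : Module.Finite B' A' := inferInstance
  haveI : Module.Finite C' A' := Module.Finite.of_restrictScalars_finite B' C' A'
  let jI : CommRingCat.of B' ≅ CommRingCat.of C' := (RingEquiv.ofBijective jB hjB).toCommRingCatIso
  haveI : IsIso (Spec.map jI.hom) := inferInstance
  let eI : Spec (CommRingCat.of C') ≅ Y'.left := asIso (Spec.map jI.hom) ≪≫ eY.symm
  let iA : CommRingCat.of A ⟶ CommRingCat.of A' :=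
    CommRingCat.ofHom (Algebra.TensorProduct.includeRight : A →ₐ[C] A').toRingHom
  let ιB : CommRingCat.of B' ⟶ CommRingCat.of A' := CommRingCat.ofHom iB.toRingHom
  have hq : IsPullback (Spec.map ιB ≫ eY.inv) (Spec.map iA)
      (eY.hom ≫ Spec.map (CommRingCat.ofHom (algebraMap C B'))) (ConstAct.quot R A G).left := by
    refine (isPullback_SpecMap_of_isPushout _ _ _ _ (CommRingCat.isPushout_tensorProduct C B' A)).of_iso
      (Iso.refl _) eY.symm (Iso.refl _) (Iso.refl _) ?_ ?_ ?_ ?_
    · simp [ιB, iB]; rfl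
    · simp [iA]
    · simp
    · simp; rfl
  let e : Spec (CommRingCat.of A') ≅ P.left := hq.isoIsPullback _ _ hP
  have he₁ : e.hom ≫ p₁.left = Spec.map ιB ≫ eY.inv := hq.isoIsPullback_hom_fst _ _ hP
  have he₂ : e.hom ≫ p₂.left = Spec.map iA := hq.isoIsPullback_hom_snd _ _ hP
  let eP : ConstAct.specA R A' ≅ P := Over.isoMk e (by
    show e.hom ≫ P.hom = Spec.map _
    rw [← Over.w p₁, ← Category.assoc, he₁, Category.assoc, ← heY, Iso.inv_hom_id_assoc, ← Spec.map_comp]
    rfl)
  let eI' : ConstAct.specInv R A' G ≅ Y' := Over.isoMk eI (by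
    show (Spec.map jI.hom ≫ eY.inv) ≫ Y'.hom = Spec.map _
    rw [Category.assoc, ← heY, Iso.inv_hom_id_assoc, ← Spec.map_comp]
    congr 1)
  have hquot : ConstAct.quot R A' G ≫ eI'.hom = eP.hom ≫ p₁ := Over.OverMorphism.ext (by
    show Spec.map _ ≫ Spec.map jI.hom ≫ eY.inv = e.hom ≫ p₁.left
    rw [he₁, ← Category.assoc, ← Spec.map_comp]
    rfl)
  have hact : ∀ g, ConstAct.act R A' G g ≫ eP.hom = eP.hom ≫ σ g := fun g => by
    apply Over.OverMorphism.ext
    apply hP.hom_ext
    · show ((ConstAct.act R A' G g).left ≫ e.hom) ≫ p₁.left = (e.hom ≫ (σ g).left) ≫ p₁.left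
      rw [Category.assoc, Category.assoc, ← Over.comp_left, hσ₁, he₁, ← Category.assoc, ConstAct.act_left,
        ← Spec.map_comp]
      congr 2
      refine CommRingCat.hom_ext (RingHom.ext fun b => ?_)
      show g • (b ⊗ₜ[C] (1 : A)) = b ⊗ₜ 1
      exact (FinGrp34.bcAct_tmul C B' A G g b 1).trans (by rw [smul_one])
    · show ((ConstAct.act R A' G g).left ≫ e.hom) ≫ p₂.left = (e.hom ≫ (σ g).left) ≫ p₂.left
      rw [Category.assoc, Category.assoc, ← Over.comp_left, hσ₂, Over.comp_left, he₂, ← Category.assoc, he₂,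
        ConstAct.act_left, ConstAct.act_left, ← Spec.map_comp, ← Spec.map_comp]
      congr 1
  obtain ⟨χ, hχ, huniq⟩ := existsUnique_desc (R := R) (A := A') (G := G) hN ((yon SR).map eP.hom ≫ ψ) fun g => by
    rw [← Category.assoc, ← Functor.map_comp, hact, Functor.map_comp, Category.assoc, hψ]
  refine ⟨(yon SR).map eI'.inv ≫ χ, ?_, fun χ' hχ' => ?_⟩
  · dsimp only
    rw [← cancel_epi ((yon SR).map eP.hom), ← Category.assoc, ← Functor.map_comp, ← hquot, ← Category.assoc,
      ← Functor.map_comp, Category.assoc, Iso.hom_inv_id, Category.comp_id, hχ]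
  · have := huniq ((yon SR).map eI'.hom ≫ χ') (by
      dsimp only
      rw [← Category.assoc, ← Functor.map_comp, hquot, Functor.map_comp, Category.assoc, hχ'])
    rw [← this, ← Category.assoc, ← Functor.map_comp, Iso.inv_hom_id, CategoryTheory.Functor.map_id, Category.id_comp]

/-- The universal property of a flat affine base change of the quotient map. -/
theorem existsUnique_desc_pullback {Y' : Over SR} [IsAffine Y'.left] (g : Y' ⟶ ConstAct.specInv R A G)
    [Flat g.left] {N : Sp SR} (hN : IsAlgSpace N) (P : Over SR) (p₁ : P ⟶ Y') (p₂ : P ⟶ ConstAct.specA R A)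
    (hP : IsPullback p₁.left p₂.left g.left (ConstAct.quot R A G).left) (σ : G → (P ⟶ P))
    (hσ₁ : ∀ g, σ g ≫ p₁ = p₁) (hσ₂ : ∀ g, σ g ≫ p₂ = p₂ ≫ ConstAct.act R A G g)
    (ψ : (yon SR).obj P ⟶ N) (hψ : ∀ g, (yon SR).map (σ g) ≫ ψ = ψ) :
    ∃! χ : (yon SR).obj Y' ⟶ N, (yon SR).map p₁ ≫ χ = ψ := by
  obtain ⟨γ, hγ⟩ := Spec.map_surjective (R := CommRingCat.of (ConstAct.inv R A G)) (Y'.left.isoSpec.inv ≫ g.left)
  let B' : Type u := Γ(Y'.left, ⊤)
  letI : Algebra (ConstAct.inv R A G) B' := γ.hom.toAlgebra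
  letI : Algebra R B' := (γ.hom.comp (algebraMap R (ConstAct.inv R A G))).toAlgebra
  haveI : IsScalarTower R (ConstAct.inv R A G) B' := IsScalarTower.of_algebraMap_eq fun _ => rfl
  have hflat : Flat (Spec.map γ) := by rw [hγ]; infer_instance
  haveI : Module.Flat (ConstAct.inv R A G) B' := HasRingHomProperty.Spec_iff.1 hflat
  have hgγ : Y'.left.isoSpec.hom ≫ Spec.map γ = g.left := by rw [hγ, Iso.hom_inv_id_assoc]
  refine existsUnique_desc_tensor B' hN P Y' p₁ p₂ σ hσ₁ hσ₂ Y'.left.isoSpec ?_ ?_ ψ hψ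
  · show Y'.left.isoSpec.hom ≫ Spec.map (CommRingCat.ofHom (algebraMap R (ConstAct.inv R A G)) ≫ γ) = Y'.hom
    rw [Spec.map_comp, reassoc_of% hgγ]
    exact Over.w g
  · show IsPullback _ _ (Y'.left.isoSpec.hom ≫ Spec.map γ) _
    rw [hgγ]
    exact hP

end Groth.Agent.ConstFlat57
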