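import Groth.Agent.FinGrp34.IdemOrbit

/-!
An idempotent of an equivariant algebra isomorphic to a local factor of the base, with the same stabiliser, gives an
equivariant section.
-/

set_option autoImplicit false
set_option linter.style.haveILetI false
universe u v

namespace Groth.Agent.ConstFlat57

open Groth.Agent.FinGrp34.IdemOrbit

variable {B : Type u} [CommRing B]
variable {S : Type u} [CommRing S] [IsLocalRing S] [Algebra S B]
  {T : Type u} [CommRing T] [Algebra B T]
  {G : Type v} [Group G] [Finite G] [MulSemiringAction G B]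
  [MulSemiringAction G T]

theorem exists_equivariant_section (hφ : ∀ (g : G) (b : B), algebraMap B T (g • b) = g • algebraMap B T b)
    (hinv : ∀ b : B, (∀ g : G, g • b = b) → ∃ s : S, algebraMap S B s = b)
    (hinj : Function.Injective (algebraMap S B))
    (y : Ideal B) [y.IsPrime] {ε : B} (hε : IsIdempotentElem ε) (hεy : ε ∉ y)
    (huniq : ∀ P : Ideal B, P.IsMaximal → ε ∉ P → P = y)
    (x : Ideal T) [x.IsPrime] {e : T} (he : IsIdempotentElem e) (hex : e ∉ x)
    (hsurj : ∀ t : T, ∃ b : B, e * t = e * algebraMap B T b)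
    (hker : ∀ b : B, e * algebraMap B T b = 0 ↔ ε * b = 0)
    (hstab : ∀ g : G, g • ε = ε → ∀ t, t ∉ x → g • t ∉ x) :
    ∃ s : T →ₐ[B] B, ∀ (g : G) (t : T), s (g • t) = g • s t := by
  classical
  cases nonempty_fintype G
  set φ := algebraMap B T with hφdef
  have heq : ∀ b c : B, e * φ b = e * φ c ↔ ε * b = ε * c := fun b c => by
    rw [← sub_eq_zero, ← mul_sub, ← map_sub, hker, mul_sub, sub_eq_zero]
  have hε0 : ε ≠ 0 := fun h => hεy (h ▸ y.zero_mem)
  have he0 : ∀ v : T, IsIdempotentElem v → v ∉ x → e * v = e := by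
    intro v hv hvx
    obtain ⟨b, hb⟩ := hsurj v
    have hbb : ε * (b * b) = ε * b := (heq _ _).1 (by
      rw [map_mul, ← mul_assoc, ← hb, mul_right_comm, ← hb]
      rw [mul_assoc, hv.eq])
    have hidem : IsIdempotentElem (ε * b) := by
      show ε * b * (ε * b) = ε * b
      rw [mul_mul_mul_comm, hε.eq, hbb]
    rcases mem_or_one_sub_mem hidem y with h | h
    · exfalso
      have h0 := (mul_eq_zero_or_self hε hidem y huniq).1 h
      rw [← mul_assoc, hε.eq] at h0
      have : e * v = 0 := by rw [hb, hker]; exact h0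
      rcases Ideal.IsPrime.mem_or_mem inferInstance (this ▸ x.zero_mem : e * v ∈ x) with h' | h'
      · exact hex h'
      · exact hvx h'
    · have h0 := (mul_eq_zero_or_self hε hidem y huniq).2 h
      rw [← mul_assoc, hε.eq] at h0
      rw [hb, (heq b 1).2 (by rw [h0, mul_one]), map_one, mul_one]
  have hidε : ∀ g : G, IsIdempotentElem (g • ε) := fun g => by
    show g • ε * g • ε = g • ε
    rw [← smul_mul', hε.eq]
  have hide : ∀ g : G, IsIdempotentElem (g • e) := fun g => by
    show g • e * g • e = g • e
    rw [← smul_mul', he.eq]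
  have horth : ∀ g : G, g • ε ≠ ε → ε * g • ε = 0 := by
    intro g hg
    rcases mem_or_one_sub_mem (hidε g) y with h | h
    · exact (mul_eq_zero_or_self hε (hidε g) y huniq).1 h
    · exfalso
      have h1 : ε * g • ε = ε := (mul_eq_zero_or_self hε (hidε g) y huniq).2 h
      have h2 : g⁻¹ • ε * ε = g⁻¹ • ε := by
        have := congrArg (g⁻¹ • ·) h1
        simpa [smul_mul'] using this
      rcases mem_or_one_sub_mem (hidε g⁻¹) y with h' | h'
      · have h3 := (mul_eq_zero_or_self hε (hidε g⁻¹) y huniq).1 h'
        rw [mul_comm, h2, smul_eq_iff_eq_inv_smul, inv_inv, smul_zero] at h3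
        exact hε0 h3
      · have h3 := (mul_eq_zero_or_self hε (hidε g⁻¹) y huniq).2 h'
        rw [mul_comm, h2, inv_smul_eq_iff] at h3
        exact hg h3.symm
  have hfixe : ∀ g : G, g • ε = ε → g • e = e := by
    intro g hg
    have hg' : g⁻¹ • ε = ε := by rw [inv_smul_eq_iff, hg]
    have h1 := he0 (g • e) (hide g) (hstab g hg e hex)
    have h2 := congrArg (g • ·) (he0 (g⁻¹ • e) (hide _) (hstab g⁻¹ hg' e hex))
    simp [smul_mul'] at h2
    rw [← h2, mul_comm, h1]
  -- the local section
  choose r hr using hsurj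
  obtain ⟨s₀, hs₀def⟩ : ∃ s₀ : T → B, ∀ t, s₀ t = ε * r t := ⟨_, fun _ => rfl⟩
  have hs₀ : ∀ t b, e * t = e * φ b → s₀ t = ε * b := fun t b h =>
    (hs₀def t).trans ((heq _ _).1 ((hr t).symm.trans h))
  have hs₀e : ∀ t, e * t = e * φ (s₀ t) := fun t => by
    rw [hr t, heq, hs₀def, ← mul_assoc, hε.eq]
  have hs₀ε : ∀ t, ε * s₀ t = s₀ t := fun t => by
    rw [hs₀def, ← mul_assoc, hε.eq]
  have hs₀alg : ∀ b, s₀ (φ b) = ε * b := fun b => hs₀ _ _ rfl
  have hs₀add : ∀ t t', s₀ (t + t') = s₀ t + s₀ t' := fun t t' => by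
    rw [hs₀ _ (s₀ t + s₀ t') (by rw [map_add, mul_add, mul_add, ← hs₀e, ← hs₀e]), mul_add, hs₀ε, hs₀ε]
  have hs₀mul : ∀ t t', s₀ (t * t') = s₀ t * s₀ t' := fun t t' => by
    rw [hs₀ _ (s₀ t * s₀ t') (by
      rw [show e * (t * t') = (e * t) * (e * t') by rw [mul_mul_mul_comm, he.eq], hs₀e t, hs₀e t',
        mul_mul_mul_comm, he.eq, ← map_mul]), ← mul_assoc, hs₀ε]
  have hs₀smul : ∀ g : G, g • ε = ε → ∀ t, s₀ (g • t) = g • s₀ t := fun g hg t => by
    have h := congrArg (g • ·) (hs₀e t)
    simp only [smul_mul', hfixe g hg, ← hφ] at h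
    rw [hs₀ _ _ h, show ε * g • s₀ t = g • (ε * s₀ t) by rw [smul_mul', hg], hs₀ε]
  -- the orbit sum
  let H : Subgroup G := MulAction.stabilizer G ε
  haveI : Finite (G ⧸ H) := Quotient.finite _
  cases nonempty_fintype (G ⧸ H)
  let f : T → G ⧸ H → B := fun t q => Quotient.liftOn' q (fun g => g • s₀ (g⁻¹ • t)) fun g g' hgg => by
    rw [QuotientGroup.leftRel_apply] at hgg
    have h := hs₀smul _ (MulAction.mem_stabilizer_iff.1 hgg) (g'⁻¹ • t)
    rw [mul_smul, smul_inv_smul, mul_smul, eq_inv_smul_iff] at h
    exact h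
  have hf : ∀ (t : T) (g : G), f t (g : G ⧸ H) = g • s₀ (g⁻¹ • t) := fun _ _ => rfl
  have hfε : ∀ (t : T) (g : G), f t (g : G ⧸ H) = g • ε * f t (g : G ⧸ H) := fun t g => by
    rw [hf, ← smul_mul', hs₀ε]
  let s : T → B := fun t => ∑ q, f t q
  have hone : s 1 = 1 := by
    have h1 : ∀ g : G, f 1 (g : G ⧸ H) = g • ε := fun g => by
      rw [hf, smul_one, ← map_one φ, hs₀alg, mul_one]
    have hfix : ∀ g : G, g • s 1 = s 1 := fun g => by
      show g • ∑ q, f 1 q = _
      rw [Finset.smul_sum]
      refine Fintype.sum_equiv (MulAction.toPerm g) _ _ fun q => ?_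
      induction q using QuotientGroup.induction_on with
      | H a => rw [MulAction.toPerm_apply, MulAction.Quotient.smul_coe, h1, h1, smul_eq_mul, mul_smul]
    obtain ⟨c, hc⟩ := hinv _ hfix
    have horth' : ∀ a b : G, (a : G ⧸ H) ≠ b → a • ε * b • ε = 0 := fun a b hab => by
      have h : ε * (a⁻¹ * b) • ε = 0 := horth _ fun h => hab (QuotientGroup.eq.2 h)
      have := congrArg (a • ·) h
      simpa [smul_mul', smul_smul] using this
    have hidem : s 1 * s 1 = s 1 := by
      show (∑ q, f 1 q) * (∑ q, f 1 q) = ∑ q, f 1 q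
      rw [Finset.sum_mul]
      refine Finset.sum_congr rfl fun q _ => ?_
      rw [Finset.mul_sum, Finset.sum_eq_single q]
      · induction q using QuotientGroup.induction_on with
        | H a => rw [h1]; exact (hidε a).eq
      · intro q' _ hq'
        induction q using QuotientGroup.induction_on with
        | H a =>
          induction q' using QuotientGroup.induction_on with
          | H b => rw [h1, h1, horth' a b (Ne.symm hq')]
      · intro h; exact absurd (Finset.mem_univ _) h
    have hεs : ε * s 1 = ε := by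
      show ε * ∑ q, f 1 q = ε
      rw [Finset.mul_sum, Finset.sum_eq_single ((1 : G) : G ⧸ H)]
      · rw [h1, one_smul, hε.eq]
      · intro q _ hq
        induction q using QuotientGroup.induction_on with
        | H a =>
          rw [h1]
          simpa using horth' 1 a (Ne.symm hq)
      · intro h; exact absurd (Finset.mem_univ _) h
    have hcc : IsIdempotentElem c := hinj (by rw [map_mul, hc, hidem])
    rcases IsLocalRing.isUnit_or_isUnit_of_add_one (add_sub_cancel c 1) with h | h
    · rw [← hc, (IsIdempotentElem.iff_eq_one_of_isUnit h).1 hcc, map_one]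
    · have hc0 : c = 0 := sub_eq_self.1 ((IsIdempotentElem.iff_eq_one_of_isUnit h).1 hcc.one_sub)
      rw [← hc, hc0, map_zero, mul_zero] at hεs
      exact absurd hεs.symm hε0
  have hadd : ∀ t t', s (t + t') = s t + s t' := fun t t' => by
    show ∑ q, f (t + t') q = (∑ q, f t q) + ∑ q, f t' q
    rw [← Finset.sum_add_distrib]
    refine Finset.sum_congr rfl fun q _ => ?_
    induction q using QuotientGroup.induction_on with
    | H a => rw [hf, hf, hf, smul_add, hs₀add, smul_add]
  have hmul : ∀ t t', s (t * t') = s t * s t' := fun t t' => by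
    show ∑ q, f (t * t') q = (∑ q, f t q) * ∑ q, f t' q
    rw [Finset.sum_mul]
    refine Finset.sum_congr rfl fun q _ => ?_
    rw [Finset.mul_sum, Finset.sum_eq_single q]
    · induction q using QuotientGroup.induction_on with
      | H a => rw [hf, hf, hf, smul_mul', hs₀mul, smul_mul']
    · intro q' _ hq'
      induction q using QuotientGroup.induction_on with
      | H a =>
        induction q' using QuotientGroup.induction_on with
        | H b =>
          rw [hfε t a, hfε t' b]
          have h : ε * (a⁻¹ * b) • ε = 0 := horth _ fun h => hq' (QuotientGroup.eq.2 h).symm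
          have h2 : a • ε * b • ε = 0 := by
            have := congrArg (a • ·) h
            simpa [smul_mul', smul_smul] using this
          rw [mul_mul_mul_comm, h2, zero_mul]
    · intro h; exact absurd (Finset.mem_univ _) h
  have halg : ∀ b, s (φ b) = b := fun b => by
    calc s (φ b) = (∑ q, f 1 q) * b := by
          show ∑ q, f (φ b) q = _
          rw [Finset.sum_mul]
          refine Finset.sum_congr rfl fun q _ => ?_
          induction q using QuotientGroup.induction_on with
          | H a =>
            rw [hf, hf, ← hφ, hs₀alg, smul_one, ← map_one φ, hs₀alg, smul_mul', smul_mul', smul_inv_smul, smul_one,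
              mul_one]
      _ = b := by rw [show (∑ q, f 1 q) = 1 from hone, one_mul]
  refine ⟨{ toFun := s, map_one' := hone, map_mul' := hmul,
            map_zero' := by simpa using halg 0, map_add' := hadd, commutes' := halg }, fun g t => ?_⟩
  show ∑ q, f (g • t) q = g • ∑ q, f t q
  rw [Finset.smul_sum]
  refine (Fintype.sum_equiv (MulAction.toPerm g) _ _ fun q => ?_).symm
  induction q using QuotientGroup.induction_on with
  | H a =>
    rw [MulAction.toPerm_apply, MulAction.Quotient.smul_coe, hf, hf, smul_eq_mul, mul_inv_rev, mul_smul,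
      mul_smul, inv_smul_smul]

end Groth.Agent.ConstFlat57
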